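import Cfsg.Agent.H870.Der.CoThree
import Cfsg.Agent.H870.Der.FiTwoC
import Cfsg.Agent.H555.TwoSp.CoThreeSeven
import Cfsg.Agent.H143.RowCo3
import Cfsg.Agent.H559.Row.Orders
import Cfsg.Agent.H257.Cov.Tools
import Cfsg.Agent.S0364
import Cfsg.Agent.S2475

/-!
# S2499 (normal 2-coverings), `Co3` (helper560)

`noTwo_co3`: the orders 21, 22, 23 are pairwise incompatible (23 in `M23`, `M24`, `L₂(23)` only; 11 and 21: nowhere;
`M24` is not involved because its elements of order 11 are rational).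
-/

set_option autoImplicit false

namespace Cfsg.Agent.H560.Cov.Co3

open Subgroup Cfsg Cfsg.Agent.H439.Der Cfsg.Agent.H257.El Cfsg.Agent.OrdDiv Cfsg.Agent.H870.Der
open Cfsg.Agent.H713.Count Cfsg.Agent.H713 Cfsg.Agent.H870.Der.Cop Cfsg.Agent.H870.Der.FiTwo
open Cfsg.Agent.H257.Cov Cfsg.Agent.H278.Cov
open Cfsg.Agent.H870.Der.CoThree (card_co3)

universe u

/-! ### `M23` -/

section mathieu

open Equiv.Perm Cfsg.Agent.H180.MEl Cfsg.Agent.H870.Der.MTF
open Cfsg.Agent.H866.InvolType (fx)

/-- an element of order 21 of `M24` does not fix a point -/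
theorem no21' (z : M24) (hz : orderOf z = 21) {a : GolayPt} (ha : (z : Equiv.Perm GolayPt) a = a) : False := by
  have hz' : orderOf (z : Equiv.Perm GolayPt) = 21 := by rw [Subgroup.orderOf_coe, hz]
  set w : Equiv.Perm GolayPt := (z : Equiv.Perm GolayPt) with hw
  have m7 : w ^ 3 ∈ M24 := pow_mem z.2 3
  have m3 : w ^ 7 ∈ M24 := pow_mem z.2 7
  have o7 : orderOf (w ^ 3) = 7 := by rw [orderOf_pow_of_dvd (by norm_num) (by rw [hz']; norm_num), hz']
  have o3 : orderOf (w ^ 7) = 3 := by rw [orderOf_pow_of_dvd (by norm_num) (by rw [hz']; norm_num), hz']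
  have c : Commute (w ^ 3) (w ^ 7) := (Commute.refl w).pow_pow 3 7
  have f7 := fx7 m7 o7
  have f3 := fx3 m3 o3
  have h3 := card_Fx_comm (p := 3) (x := w ^ 7) (y := w ^ 3) (by rw [← o3, pow_orderOf_eq_one]) c.symm
  have h7 := card_Fx_comm (p := 7) (x := w ^ 3) (y := w ^ 7) (by rw [← o7, pow_orderOf_eq_one]) c
  rw [Finset.inter_comm] at h3
  have h6 : (Fx (w ^ 3) ∩ Fx (w ^ 7)).card ≤ fx (w ^ 3) := Finset.card_le_card Finset.inter_subset_left
  have hfix : ∀ (n : ℕ) (p : GolayPt), w p = p → (w ^ n) p = p := by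
    intro n p hp
    induction n with
    | zero => rfl
    | succ n ih =>
      rw [pow_succ]
      show (w ^ n) (w p) = p
      rw [hp, ih]
  have h2 : 1 ≤ (Fx (w ^ 3) ∩ Fx (w ^ 7)).card := by
    rw [Nat.one_le_iff_ne_zero, Ne, Finset.card_eq_zero]
    intro he
    have h : a ∈ Fx (w ^ 3) ∩ Fx (w ^ 7) := by
      rw [Finset.mem_inter, mem_Fx, mem_Fx]
      exact ⟨hfix _ _ ha, hfix _ _ ha⟩
    rw [he] at h
    exact absurd h (Finset.notMem_empty _)
  rw [f7] at h3 h6
  unfold Nat.ModEq at h3 h7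
  rcases f3 with f3 | f3 <;> rw [f3] at h7 <;> omega

theorem m23_no21 {G : Type*} [Group G] (h : Spor.IsoM23 G) (z : G) : orderOf z ≠ 21 := by
  obtain ⟨e⟩ := h
  intro hz
  refine no21' ⟨((e z : Spor.M23) : Equiv.Perm GolayPt), (e z).2.1⟩ ?_ (a := none) (e z).2.2
  rw [Subgroup.orderOf_mk, Subgroup.orderOf_coe, ← hz]
  exact orderOf_injective e.toMonoidHom e.injective z

end mathieu

/-! ### facts on `Co3` -/

structure Facts (T : Type u) [Group T] : Prop where
  card : Nat.card T = 495766656000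
  c7 : ∀ x : T, orderOf x = 7 → Nat.card (centralizer ({x} : Set T)) = 42
  c11 : ∀ x : T, orderOf x = 11 → Nat.card (centralizer ({x} : Set T)) = 22
  c23 : ∀ x : T, orderOf x = 23 → Nat.card (centralizer ({x} : Set T)) = 23
  o22 : ∃ x : T, orderOf x = 22

theorem cent_zpowers {G : Type*} [Group G] (y : G) :
    centralizer ((zpowers y : Subgroup G) : Set G) = centralizer ({y} : Set G) := by
  ext x
  rw [mem_centralizer_singleton_iff, mem_centralizer_iff]
  constructor
  · intro h
    exact (h y (mem_zpowers y)).symm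
  · rintro h _ ⟨k, rfl⟩
    exact ((show Commute y x from h.symm).zpow_left k).eq

theorem facts {T : Type u} [Group T] (h : Spor.IsoCo3 T) : Facts T := by
  obtain ⟨e⟩ := id h
  refine ⟨by rw [Nat.card_congr e.toEquiv, card_co3], fun x hx => ?_, fun x hx => ?_, fun x hx => ?_, ?_⟩
  · obtain ⟨k, m, hkm, h0⟩ := Cfsg.Agent.H555.TwoSp.cn7 h
    have h1 := (h0 (zpowers x) (by rw [Nat.card_zpowers, hx])).1
    rw [cent_zpowers] at h1
    have h2 := Cfsg.Agent.H143.RowCo3.centralizer_dvd_of h (y := x)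
      (by rw [hx]; norm_num) (by rw [hx]; norm_num)
    rw [h1] at h2 ⊢
    rcases hkm with ⟨rfl, -⟩ | ⟨rfl, -⟩ | ⟨rfl, -⟩ | ⟨rfl, -⟩ <;> revert h2 <;> norm_num
  · have h1 := Cfsg.Agent.H555.TwoSp.c11 h (zpowers x) (by rw [Nat.card_zpowers, hx])
    rwa [cent_zpowers] at h1
  · have h1 := Cfsg.Agent.H555.TwoSp.c23 h (zpowers x) (by rw [Nat.card_zpowers, hx])
    rwa [cent_zpowers] at h1
  · obtain ⟨x, hx⟩ := H870.Der.CoThree.exists22
    exact ⟨e.symm x, by rw [MulEquiv.orderOf_eq, hx]⟩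

namespace Facts

variable {T : Type u} [Group T] (F : Facts T)
include F

theorem finite : Finite T := Nat.finite_of_card_ne_zero (by rw [F.card]; norm_num)

theorem dvd {p : ℕ} (h : p ∣ 495766656000) : p ∣ Nat.card T := by rwa [F.card]

theorem ord {p : ℕ} (hp : p.Prime) (hd : p ∣ 495766656000) : ∃ x : T, orderOf x = p := by
  have := F.finite
  have := Fact.mk hp
  exact exists_prime_orderOf_dvd_card' p (F.dvd hd)

theorem no_7 {n : ℕ} (hd : 7 ∣ n) (hn : ¬ n ∣ 42) (z : T) : orderOf z ≠ n := fun hz =>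
  hn (FiTwo.Facts.order_of_pow F.c7 hz hd (by
    rintro rfl
    have := F.finite
    exact (orderOf_pos z).ne' hz))

theorem no_11 {n : ℕ} (hd : 11 ∣ n) (hn : ¬ n ∣ 22) (z : T) : orderOf z ≠ n := fun hz =>
  hn (FiTwo.Facts.order_of_pow F.c11 hz hd (by
    rintro rfl
    have := F.finite
    exact (orderOf_pos z).ne' hz))

theorem isol : Isol T 23 := isol_of_cent (by norm_num) F.c23

theorem o21 : ∃ x : T, orderOf x = 21 := by
  have := F.finite
  have := Fact.mk (show Nat.Prime 3 by norm_num)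
  obtain ⟨x, hx⟩ := F.ord (p := 7) (by norm_num) (by norm_num)
  obtain ⟨⟨y, hyC⟩, hy⟩ := exists_prime_orderOf_dvd_card' (G := centralizer ({x} : Set T)) 3
    (by rw [F.c7 x hx]; norm_num)
  rw [Subgroup.orderOf_mk] at hy
  exact ⟨_, orderOf_mul_of_comm (r := 7) (s := 3) (by norm_num) (by norm_num) (by norm_num) hx hy
    (mem_centralizer_singleton_iff.1 hyC).symm⟩

/-- the elements of order 11 are conjugate to 5 of their powers -/
theorem fus11 [Fact (Nat.Prime 11)] {x : T} (hx : orderOf x = 11) : (fus (p := 11) x).card = 5 := by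
  have := F.finite
  obtain ⟨c, h1, h2, h3⟩ := count (p := 11) (F.dvd (by norm_num)) (by rw [F.card]; norm_num) hx
  rw [F.c11 x hx] at h1
  have hc : c = 2 := by omega
  subst hc
  rw [F.card] at h3
  have hle := Nat.le_of_dvd (by norm_num) h2
  have h3' : (fus (p := 11) x).card * 2 % 11 = 10 := h3
  omega

end Facts

/-- the powers conjugate to `x` in a quotient -/
theorem fus_quot_subset {R : Type*} [Group R] [Finite R] {O : Subgroup R} [O.Normal] {p : ℕ} [hp : Fact p.Prime]
    (hO : ¬ p ∣ Nat.card O) {x : R} (hx : orderOf x = p) :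
    fus (p := p) (QuotientGroup.mk' O x) ⊆ fus (p := p) x := by
  intro m hm
  rw [mem_fus] at hm ⊢
  refine ⟨hm.1, ?_⟩
  obtain ⟨c, hc⟩ := isConj_iff.1 hm.2
  obtain ⟨g, rfl⟩ := QuotientGroup.mk'_surjective O c
  obtain ⟨g', -, h2⟩ := exists_lift_conj hp.out hO hx (k := m.val) (g := g) hc
  exact isConj_iff.2 ⟨g', h2⟩

section

variable {T : Type u} [Group T] [Finite T] (F : Facts T) {R : Subgroup T} {O : Subgroup R} [O.Normal]
include F

/-- `M24` is not involved -/
theorem not_m24 (hO : ¬ 11 ∣ Nat.card O) {N : Subgroup (R ⧸ O)} (h : Spor.IsoM24 N) : False := by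
  have h11 : Fact (Nat.Prime 11) := ⟨by norm_num⟩
  have h2' : Fact (Nat.Prime 2) := ⟨by norm_num⟩
  have hcard : Nat.card N = 244823040 := by
    obtain ⟨e⟩ := h
    rw [Nat.card_congr e.toEquiv]
    exact Cfsg.Agent.S0364.result
  obtain ⟨x, hx⟩ := exists_prime_orderOf_dvd_card' (G := N) 11 (by rw [hcard]; norm_num)
  have hx' : orderOf (x : R ⧸ O) = 11 := by rw [Subgroup.orderOf_coe, hx]
  obtain ⟨y, hy, hyx⟩ := exists_lift_eq (by norm_num) hO hx'
  obtain ⟨c, h1, h2, h3⟩ := count (p := 11) (G := N) (by rw [hcard]; norm_num) (by rw [hcard]; norm_num) hx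
  have hy' : orderOf (y : T) = 11 := by rw [Subgroup.orderOf_coe, hy]
  have h4 := ((card_cent_sub_dvd x).trans (by
    rw [← hyx]
    exact card_cent_quot_dvd (by norm_num) hO hy)).trans (card_cent_sub_dvd y)
  rw [F.c11 _ hy', h1, show (22 : ℕ) = 11 * 2 by norm_num] at h4
  have h5 : c ∣ 2 := Nat.dvd_of_mul_dvd_mul_left (by norm_num) h4
  have hc : c = 1 := by
    rcases (Nat.dvd_prime Nat.prime_two).1 h5 with h6 | h6
    · exact h6
    · exfalso
      obtain ⟨⟨w, hwC⟩, hw⟩ := exists_prime_orderOf_dvd_card' (G := centralizer ({x} : Set N)) 2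
        (by rw [h1, h6]; norm_num)
      rw [Subgroup.orderOf_mk] at hw
      exact MTF.not_m24 h MTF.no22 _ (orderOf_mul_of_comm (r := 11) (s := 2) (by norm_num) (by norm_num)
        (by norm_num) hx hw (mem_centralizer_singleton_iff.1 hwC).symm)
  rw [hc, hcard] at h3
  have h6 : (fus (p := 11) x).card ≤ 5 := by
    rw [← F.fus11 hy']
    refine Finset.card_le_card ((fus_subset x).trans ?_)
    rw [← hyx]
    exact (fus_quot_subset hO hy).trans (fus_subset y)
  have h7 : (fus (p := 11) x).card * 1 % 11 = 10 := h3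
  omega

end

/-! ### the pairs -/

theorem l2_no {X : Type u} [Group X] (h : OrdDiv.Real (.psl 2 23) X) (z : X) : orderOf z ≠ 22 := by
  obtain ⟨E, _, _, hE, ⟨e⟩⟩ := h
  obtain ⟨l, hl⟩ := CharP.exists E
  have hlf : Fact l.Prime := ⟨CharP.char_is_prime E l⟩
  have hs := S2475.result (F := E) l (by omega)
  have hmem : ∀ m : ℕ, (∃ x : Matrix.ProjectiveSpecialLinearGroup (Fin 2) E, orderOf x = m) →
      (m ∣ l ∨ m ∣ (Fintype.card E - 1) / Nat.gcd 2 (Fintype.card E - 1) ∨
        m ∣ (Fintype.card E + 1) / Nat.gcd 2 (Fintype.card E - 1)) := fun m => ((Set.ext_iff.1 hs m).1)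
  intro hz
  rw [hE] at hmem
  rcases hmem 22 ⟨e z, by rw [MulEquiv.orderOf_eq, hz]⟩ with h1 | h1 | h1
  · rcases (Nat.dvd_prime hlf.out).1 h1 with h2 | h2
    · norm_num at h2
    · have := hlf.out
      rw [← h2] at this
      norm_num at this
  · norm_num at h1
  · norm_num at h1

section

variable {T : Type u} [Group T] [Finite T] (tab : OrderTable.{u}) (known : Known.{u}) (F : Facts T)
include tab known F

theorem oinc_23_22 : OInc T 23 22 := by
  refine oinc_of_chkI tab known (l := CoThree.l) [.psl 2 23, .m23, .m24] F.card (by norm_num) F.isol (by decide +kernel) ?_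
  intro g hg X _ _ hX x
  simp only [List.mem_cons, List.not_mem_nil, or_false] at hg
  rcases hg with rfl | rfl | rfl
  · exact l2_no hX x
  · exact MTF.not_m23 hX MTF.no22 x
  · exact MTF.not_m24 hX MTF.no22 x

theorem oinc_23_21 : OInc T 23 21 := by
  intro R hR x hx y hy hx23 hy21
  have h23 : 23 ∣ Nat.card R := by
    rw [← hx23, ← Subgroup.orderOf_mk x hx]
    exact _root_.orderOf_dvd_natCard _
  have h21 : 21 ∣ Nat.card R := by
    rw [← hy21, ← Subgroup.orderOf_mk y hy]
    exact _root_.orderOf_dvd_natCard _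
  have h7 : 7 ∣ Nat.card R := (by norm_num : 7 ∣ 21).trans h21
  have hno : ∀ s : ℕ, s.Prime → 23 ≠ s → ∀ z : T, orderOf z ≠ 23 * s := fun s hs h => F.isol s hs h
  have S : SitB T 495766656000 CoThree.l 23 R := ⟨tab, known, F.card, by decide +kernel, by norm_num, h23, by norm_num, hR⟩
  obtain ⟨O, hO, N, ht, g, hg, hr, hgc⟩ := S.exists_name (s := 7) (by norm_num) (by norm_num)
    (hno 7 (by norm_num) (by norm_num)) (by decide +kernel) h7
  have hs : surv 495766656000 CoThree.l 23 [7] = [.m23, .m24] := by decide +kernel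
  rw [hs] at hg
  have hna : ¬ ∀ a b : N, a * b = b * a := by
    intro hcm
    have h1 := ht.card_of_comm hcm
    rw [h1] at hgc
    simp only [List.mem_cons, List.not_mem_nil, or_false] at hg
    rcases hg with rfl | rfl
    · exact absurd hgc (by decide +kernel)
    · exact absurd hgc (by decide +kernel)
  have hok : okAll CoThree.l 23 = true := by decide +kernel
  simp only [List.mem_cons, List.not_mem_nil, or_false] at hg
  rcases hg with rfl | rfl
  · have hr : Spor.IsoM23 N := hr
    exact not_order_of S ht hna (out_m23 hr) hno hok (m23_no21 hr) ⟨y, hy⟩ (by rw [Subgroup.orderOf_mk, hy21])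
  · have hr : Spor.IsoM24 N := hr
    exact not_m24 F (core_trivial S ht hno hok 11 (by norm_num)) hr

theorem oinc_11_21 : OInc T 11 21 := by
  intro R hR x hx y hy hx11 hy21
  have h11 : 11 ∣ Nat.card R := by
    rw [← hx11, ← Subgroup.orderOf_mk x hx]
    exact _root_.orderOf_dvd_natCard _
  have h21 : 21 ∣ Nat.card R := by
    rw [← hy21, ← Subgroup.orderOf_mk y hy]
    exact _root_.orderOf_dvd_natCard _
  have h7 : 7 ∣ Nat.card R := (by norm_num : 7 ∣ 21).trans h21
  have S : SitB T 495766656000 CoThree.l 11 R := ⟨tab, known, F.card, by decide +kernel, by norm_num, h11, by norm_num, hR⟩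
  obtain ⟨O, hO, N, ht⟩ := S.exists_top
  have hN := ht.normal
  have hRn : Nat.card R ∣ 495766656000 := by
    rw [← F.card]
    exact Subgroup.card_subgroup_dvd_card R
  have hcard := card_eq O N
  have no3 : ∀ z : R, orderOf z ≠ 11 * 3 := SitA.noR (F.no_11 (by norm_num) (by norm_num))
  have no7 : ∀ z : R, orderOf z ≠ 11 * 7 := SitA.noR (F.no_11 (by norm_num) (by norm_num))
  have hOn : ∀ b s, s ^ b ∣ Nat.card O → s ^ b ∣ 495766656000 := fun b s h =>
    (h.trans (Subgroup.card_subgroup_dvd_card O)).trans hRn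
  have h7O : ¬ 7 ∣ Nat.card O := by
    refine not_dvd_core' ht.prime (by norm_num) (by norm_num) ht.dvdR ht.core no7 fun b hb hbd => ?_
    have hb3 : b < 2 := by
      by_contra h4
      have h5 := (pow_dvd_pow 7 (show 2 ≤ b by omega)).trans (hOn _ _ hbd)
      norm_num at h5
    interval_cases b
    norm_num
  have h3O : ¬ 3 ∣ Nat.card O := by
    refine not_three_dvd (r := 11) (q := 7) (by norm_num) (by norm_num) (by norm_num) h11 h7 ht.core h7O no3
      (fun y hy h9 => ?_) (fun b hb hbd => ?_)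
    · have h1 := h9.trans (card_cent_sub_dvd y)
      rw [F.c7 _ (by rw [Subgroup.orderOf_coe, hy])] at h1
      norm_num at h1
    · have hb3 : b < 8 := by
        by_contra h4
        have h5 := (pow_dvd_pow 3 (show 8 ≤ b by omega)).trans (hOn _ _ hbd)
        norm_num at h5
      interval_cases b <;> norm_num
  have h3i : ¬ 3 ∣ N.index := ht.not_dvd_index (by norm_num) (by norm_num) no3 (by norm_num)
  have h7i : ¬ 7 ∣ N.index := ht.not_dvd_index (by norm_num) (by norm_num) no7 (by norm_num)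
  have cop : ∀ {m : ℕ}, ¬ 3 ∣ m → ¬ 7 ∣ m → Nat.Coprime 21 m := fun h3 h7 =>
    Nat.Coprime.mul_left (m := 3) (n := 7) ((Nat.Prime.coprime_iff_not_dvd (by norm_num)).2 h3)
      ((Nat.Prime.coprime_iff_not_dvd (by norm_num)).2 h7)
  obtain ⟨z, hz⟩ := exists_of_top (O := O) (N := N) (cop h3O h7O) (cop h3i h7i) (z := (⟨y, hy⟩ : R))
    (by rw [Subgroup.orderOf_mk, hy21])
  have hz21 : 21 ∣ Nat.card N := by
    rw [← hz]
    exact _root_.orderOf_dvd_natCard _
  have k7 : 7 ∣ Nat.card N := (by norm_num : 7 ∣ 21).trans hz21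
  have k3 : 3 ∣ Nat.card N := (by norm_num : 3 ∣ 21).trans hz21
  have hna := SitA.not_comm_of_dvd ht (by norm_num) (by norm_num) k7
  obtain ⟨g, hg, hr, hgc⟩ := S.exists_surv ht hna [7, 3] (by
    intro s hs
    simp only [List.mem_cons, List.not_mem_nil, or_false] at hs
    rcases hs with rfl | rfl
    · exact k7
    · exact k3)
  have hs : surv 495766656000 CoThree.l 11 [7, 3] = [.alt 11, .alt 12, .m22, .m23, .m24, .mcl, .hs] := by decide +kernel
  rw [hs] at hg
  simp only [List.mem_cons, List.not_mem_nil, or_false] at hg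
  rcases hg with rfl | rfl | rfl | rfl | rfl | rfl | rfl
  · -- `A11`
    obtain ⟨x, hx, h4⟩ := alt11 hr
    have hx' : orderOf (x : R ⧸ O) = 7 := by rw [Subgroup.orderOf_coe, hx]
    obtain ⟨y, hy, hyx⟩ := exists_lift_eq (by norm_num) h7O hx'
    have h5 := (card_cent_quot_dvd (by norm_num) h7O hy).trans (card_cent_sub_dvd y)
    rw [hyx, F.c7 _ (by rw [Subgroup.orderOf_coe, hy])] at h5
    have h6 := (h4.trans (card_cent_sub_dvd x)).trans h5
    norm_num at h6
  · -- `A12`
    obtain ⟨z, hz⟩ := exists_of_N (alt35 (n := 12) (by norm_num) hr)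
    exact SitA.noR (F.no_7 (n := 35) (by norm_num) (by norm_num)) z hz
  · exact MTF.not_m22 hr z hz
  · exact m23_no21 hr z hz
  · exact not_m24 F ht.core hr
  · exact H559.Row.mcl_twentyone hr z (by rw [hz])
  · exact H559.Row.hs_twentyone hr z (by rw [hz])

end

/-- **S2499 for `Co3`**: `Co3` is not the union of the conjugates of two proper subgroups (orders 21, 22, 23) -/
theorem noTwo_co3 (tab : OrderTable.{u}) (known : Known.{u}) {T : Type u} [Group T] [Finite T]
    (h : Spor.IsoCo3 T) : NoTwo T := by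
  have F := facts h
  exact noTwo_of_orders (F.ord (p := 23) (by norm_num) (by norm_num)) F.o22 F.o21 (oinc_23_22 tab known F)
    ((oinc_11_21 tab known F).mul (by norm_num) dvd_rfl (by norm_num) (by norm_num)) (oinc_23_21 tab known F)

end Cfsg.Agent.H560.Cov.Co3

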