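import Cfsg.Agent.H870.Der.FiTwoE
import Cfsg.Agent.H257.Cov.Tools
import Cfsg.Agent.H836.Main
import Cfsg.Agent.H161.G2Elems
import Cfsg.Agent.H638.G2Iso
import Cfsg.Agent.OrdDiv.Main
import Cfsg.Agent.H542.G2X.Spec
import Cfsg.Agent.H559.FiSpec
import Cfsg.Agent.S2472
import Cfsg.Agent.S2474
import Cfsg.Agent.S2475
import Cfsg.Agent.Lib.PGroupCoprimeAction

/-!
# S2499 (normal 2-coverings), `Fi22` (helper560)

`noTwo_fi22`: the orders 11, 13, 21 are pairwise incompatible.  Ingredients: the subgroups of `Fi22` with 11 and 13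
(H870/Der/FiTwo*), no elements of order 21 in `L₂(13)`, `L₂(27)`, `G₂(3)`, `PSp₆(3)`, `O₇(3)`, `U₆(2)`, `M22`;
`G₂(4)` is not a subgroup of `Fi22` (`not_g2`: in `SL₃(4)` the centre is a commutator), `L₂(27).3` (`exists_42`).
-/

set_option autoImplicit false

namespace Cfsg.Agent.H560.Cov.Fi22

universe u v

section PartA

open Subgroup Cfsg Cfsg.Agent.H439.Der Cfsg.Agent.H257.El Cfsg.Agent.OrdDiv Cfsg.Agent.H870.Der
open Cfsg.Agent.H713.Count Cfsg.Agent.H713 Cfsg.Agent.H870.Der.Cop Cfsg.Agent.H870.Der.FiTwo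
open Cfsg.Agent.H257.Cov Cfsg.Agent.H278.Cov

section

variable {T : Type u} [Group T] [Finite T] (tab : OrderTable.{u}) (known : Known.{u}) (F : Facts T)
include tab known F

theorem oinc_11_13 : OInc T 11 13 := by
  intro R hR x hx y hy hx11 hy13
  have h11 : 11 ∣ Nat.card R := by
    rw [← hx11, ← Subgroup.orderOf_mk x hx]
    exact _root_.orderOf_dvd_natCard _
  have h13 : 13 ∣ Nat.card R := by
    rw [← hy13, ← Subgroup.orderOf_mk y hy]
    exact _root_.orderOf_dvd_natCard _
  exact not_both tab known F hR h11 h13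

theorem oinc_11_21 : OInc T 11 21 := by
  intro R hR x hx y hy hx11 hy21
  have h11 : 11 ∣ Nat.card R := by
    rw [← hx11, ← Subgroup.orderOf_mk x hx]
    exact _root_.orderOf_dvd_natCard _
  have h21 : 21 ∣ Nat.card R := by
    rw [← hy21, ← Subgroup.orderOf_mk y hy]
    exact _root_.orderOf_dvd_natCard _
  have h7 : 7 ∣ Nat.card R := (by norm_num : 7 ∣ 21).trans h21
  have h13 := not_both tab known F hR h11
  have S : SitB T 64561751654400 l 11 R := ⟨tab, known, F.card, by decide +kernel, by norm_num, h11, by norm_num, hR⟩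
  obtain ⟨O, hO, N, ht, g, hg, hr, hgc⟩ := S.exists_name (s := 7) (by norm_num) (by norm_num)
    (F.no_11 (by norm_num) (by norm_num)) (by decide +kernel) h7
  have hs : surv 64561751654400 l 11 [7] = [.alt 11, .alt 12, .alt 13, .psu 6 2, .m22, .suz] := by decide +kernel
  rw [hs] at hg
  have hN := ht.normal
  have hRn := dvd_n F R
  have hcard := card_eq O N
  have no3 : ∀ z : R, orderOf z ≠ 11 * 3 := noR_11 F (by norm_num) (by norm_num)
  have no7 : ∀ z : R, orderOf z ≠ 11 * 7 := noR_11 F (by norm_num) (by norm_num)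
  have hOn : ∀ b s, s ^ b ∣ Nat.card O → s ^ b ∣ 64561751654400 := fun b s h =>
    (h.trans (Subgroup.card_subgroup_dvd_card O)).trans hRn
  have h7O : ¬ 7 ∣ Nat.card O := by
    refine not_dvd_core' ht.prime (by norm_num) (by norm_num) ht.dvdR ht.core no7 fun b hb hbd => ?_
    have hb3 : b < 2 := by
      by_contra h4
      have h5 := (pow_dvd_pow 7 (show 2 ≤ b by omega)).trans (hOn _ _ hbd)
      norm_num at h5
    interval_cases b
    norm_num
  have h3O : ¬ 3 ∣ Nat.card O := by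
    refine not_three_dvd (r := 11) (q := 7) (by norm_num) (by norm_num) (by norm_num) h11 h7 ht.core h7O no3
      (fun y hy h9 => ?_) (fun b hb hbd => ?_)
    · have h1 := h9.trans (card_cent_sub_dvd y)
      rw [F.c7 _ (by rw [Subgroup.orderOf_coe, hy])] at h1
      norm_num at h1
    · have hb3 : b < 10 := by
        by_contra h4
        have h5 := (pow_dvd_pow 3 (show 10 ≤ b by omega)).trans (hOn _ _ hbd)
        norm_num at h5
      interval_cases b <;> norm_num
  have h3i : ¬ 3 ∣ N.index := ht.not_dvd_index (by norm_num) (by norm_num) no3 (by norm_num)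
  have h7i : ¬ 7 ∣ N.index := ht.not_dvd_index (by norm_num) (by norm_num) no7 (by norm_num)
  have cop : ∀ {m : ℕ}, ¬ 3 ∣ m → ¬ 7 ∣ m → Nat.Coprime 21 m := fun h3 h7 =>
    Nat.Coprime.mul_left (m := 3) (n := 7) ((Nat.Prime.coprime_iff_not_dvd (by norm_num)).2 h3)
      ((Nat.Prime.coprime_iff_not_dvd (by norm_num)).2 h7)
  obtain ⟨z, hz⟩ := exists_of_top (O := O) (N := N) (cop h3O h7O) (cop h3i h7i) (z := (⟨y, hy⟩ : R))
    (by rw [Subgroup.orderOf_mk, hy21])
  have bad13 : 13 ∣ Nat.card N → False := fun h => h13 (h.trans (by rw [hcard]; exact dvd_mul_right _ _))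
  simp only [List.mem_cons, List.not_mem_nil, or_false] at hg
  rcases hg with rfl | rfl | rfl | rfl | rfl | rfl
  · -- `A11`
    obtain ⟨x, hx, h4⟩ := alt11 hr
    have hx' : orderOf (x : R ⧸ O) = 7 := by rw [Subgroup.orderOf_coe, hx]
    obtain ⟨y, hy, hyx⟩ := exists_lift_eq (by norm_num) h7O hx'
    have h5 := (card_cent_quot_dvd (by norm_num) h7O hy).trans (card_cent_sub_dvd y)
    rw [hyx, F.c7 _ (by rw [Subgroup.orderOf_coe, hy])] at h5
    have h6 := (h4.trans (card_cent_sub_dvd x)).trans h5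
    norm_num at h6
  · obtain ⟨z, hz⟩ := exists_of_N (alt35 (n := 12) (by norm_num) hr)
    exact noR_7 F (k := 35) (by norm_num) (by norm_num) z hz
  · exact bad13 (by rw [hgc]; decide +kernel)
  · exact u6_no21 hr z hz
  · exact MTF.not_m22 hr z hz
  · exact bad13 (by rw [hgc]; decide +kernel)

end

end PartA

section PartB

open Subgroup Cfsg Cfsg.Agent.OrdDiv Cfsg.Agent.H161.Oct Cfsg.Agent.LThreeFi22

theorem perm_three : ∀ c a b : Equiv.Perm (Fin 3), (∀ x, c x ≠ x) → a * c = c * a → b * c = c * b → a * b = b * a := by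
  decide

theorem perm_fact {α : Type*} [Finite α] (h : Nat.card α = 3) (c a b : Equiv.Perm α) (hc : ∀ x, c x ≠ x)
    (ha : a * c = c * a) (hb : b * c = c * b) : a * b = b * a := by
  obtain ⟨e⟩ : Nonempty (α ≃ Fin 3) := ⟨Finite.equivFinOfCardEq h⟩
  have key := perm_three (e.permCongrHom c) (e.permCongrHom a) (e.permCongrHom b) (fun x hx => ?_)
    (by rw [← map_mul, ha, map_mul]) (by rw [← map_mul, hb, map_mul])
  · rw [← map_mul, ← map_mul] at key
    exact e.permCongrHom.injective key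
  · have h1 : e (c (e.symm x)) = x := hx
    exact hc (e.symm x) (by rw [Equiv.eq_symm_apply, h1])

/-- in `Fi22` an element of order 3 commuting with an element of order 7 is not a commutator in its centralizer -/
theorem not_commutator {T : Type u} [Group T] (h : Spor.IsoFi22 T) {s y a b : T} (hs : orderOf s = 7)
    (hy : orderOf y = 3) (hsy : y * s = s * y) (ha : a * y = y * a) (hb : b * y = y * b)
    (hab : a * b = y * (b * a)) : False := by
  obtain ⟨e⟩ := h
  have I := H836.inv_of_iso e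
  have C := I.ctx
  have hfin := C.finite
  have s7 : s ^ 7 = 1 := by rw [← hs, pow_orderOf_eq_one]
  have s1 : s ≠ 1 := by rintro rfl; rw [orderOf_one] at hs; norm_num at hs
  have y3 : y ^ 3 = 1 := by rw [← hy, pow_orderOf_eq_one]
  have y1 : y ≠ 1 := by rintro rfl; rw [orderOf_one] at hy; norm_num at hy
  obtain ⟨t, ht, u, hu, htu, rfl⟩ := C.seven s7 s1 y3 y1 hsy
  have hc3 := C.inv_card ht hu htu
  set y := t * u with hyd
  set V := Inv (KFacts.FiTT.TK e) y with hV
  have hVc : ∀ g ∈ centralizer ({y} : Set T), ∀ f ∈ V, g * f * g⁻¹ ∈ V := fun g hg f hf =>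
    C.inv_conj hf (mem_centralizer_singleton_iff.1 hg)
  let φ := actHom (centralizer ({y} : Set T)) V hVc
  let yy : centralizer ({y} : Set T) := ⟨y, mem_centralizer_singleton_iff.2 rfl⟩
  let aa : centralizer ({y} : Set T) := ⟨a, mem_centralizer_singleton_iff.2 ha⟩
  let bb : centralizer ({y} : Set T) := ⟨b, mem_centralizer_singleton_iff.2 hb⟩
  have hcard : Nat.card ↥V = 3 := by rw [← hc3, Nat.card_coe_set_eq]
  have hfV : Finite ↥V := Nat.finite_of_card_ne_zero (by rw [hcard]; norm_num)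
  have hyf : ∀ x : ↥V, φ yy x ≠ x := by
    intro x hx
    have h1 : y * (x : T) * y⁻¹ = x := congrArg Subtype.val hx
    rw [(C.inv_mul_mem y3 x.2).2] at h1
    exact y1 (mul_eq_left.1 h1)
  have e1 : aa * yy = yy * aa := Subtype.ext ha
  have e2 : bb * yy = yy * bb := Subtype.ext hb
  have e3 : aa * bb = yy * (bb * aa) := Subtype.ext hab
  have h1 := perm_fact hcard (φ yy) (φ aa) (φ bb) hyf (by rw [← map_mul, e1, map_mul]) (by rw [← map_mul, e2, map_mul])
  have h2 : φ aa * φ bb = φ yy * (φ bb * φ aa) := by rw [← map_mul, e3, map_mul, map_mul]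
  rw [h1] at h2
  have h3 : φ yy = 1 := (right_eq_mul.1 h2)
  obtain ⟨x⟩ : Nonempty ↥V := Finite.card_pos_iff.1 (by rw [hcard]; norm_num)
  exact hyf x (by rw [h3]; rfl)

/-- the homomorphism from `SL₃(q)` -/
noncomputable def slG (F : Type*) [Field F] : Matrix.SpecialLinearGroup (Fin 3) F →* ↥(Cfsg.Lie.G2 F) where
  toFun P := ⟨(toE F).symm (slM F P), by
    rw [← toE_mem, MulEquiv.apply_symm_apply]; exact slM_mem P⟩
  map_one' := by
    apply Subtype.ext
    show (toE F).symm (slM F 1) = 1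
    rw [map_one, map_one]
  map_mul' P Q := by
    apply Subtype.ext
    show (toE F).symm (slM F (P * Q)) = (toE F).symm (slM F P) * (toE F).symm (slM F Q)
    rw [map_mul, map_mul]

theorem slG_inj (F : Type*) [Field F] : Function.Injective (slG F) := by
  intro P Q h
  have h1 : (toE F).symm (slM F P) = (toE F).symm (slM F Q) := congrArg Subtype.val h
  exact slM_inj ((toE F).symm.injective h1)

theorem exists_omega {F : Type*} [Field F] [Fintype F] (hF : Fintype.card F = 4) : ∃ w : F, w ^ 3 = 1 ∧ w ≠ 1 := by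
  classical
  have := Fact.mk Nat.prime_three
  obtain ⟨w, hw⟩ := exists_prime_orderOf_dvd_card (G := Fˣ) 3 (by
    rw [Fintype.card_units, hF])
  refine ⟨w, ?_, ?_⟩
  · have h1 : w ^ 3 = 1 := by rw [← hw, pow_orderOf_eq_one]
    have h2 := congrArg Units.val h1
    simpa using h2
  · intro h1
    have h2 : w = 1 := Units.ext h1
    rw [h2, orderOf_one] at hw
    norm_num at hw

/-- the configuration in `SL₃(4)` -/
theorem sl_conf {F : Type*} [Field F] [Fintype F] (hF : Fintype.card F = 4) :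
    ∃ s y a b : Matrix.SpecialLinearGroup (Fin 3) F, orderOf s = 7 ∧ orderOf y = 3 ∧ y * s = s * y ∧
      a * y = y * a ∧ b * y = y * b ∧ a * b = y * (b * a) := by
  classical
  obtain ⟨w, hw, hw1⟩ := exists_omega hF
  obtain ⟨A, hA⟩ := Cfsg.Agent.H375.LThree.exists_sl_three (F := F)
  rw [hF] at hA
  have hA : orderOf A = 21 := hA
  let D : Matrix.SpecialLinearGroup (Fin 3) F := ⟨!![1, 0, 0; 0, w, 0; 0, 0, w ^ 2], by
    rw [Matrix.det_fin_three]; simp; rw [← hw]; ring⟩
  let P : Matrix.SpecialLinearGroup (Fin 3) F := ⟨!![0, 1, 0; 0, 0, 1; 1, 0, 0], by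
    rw [Matrix.det_fin_three]; simp⟩
  let Z : Matrix.SpecialLinearGroup (Fin 3) F := ⟨(w ^ 2) • (1 : Matrix (Fin 3) (Fin 3) F), by
    rw [Matrix.det_smul, Matrix.det_one, Fintype.card_fin, mul_one, ← pow_mul, mul_comm, pow_mul, hw, one_pow]⟩
  have hZ : ∀ X : Matrix.SpecialLinearGroup (Fin 3) F, Z * X = X * Z := by
    intro X
    apply Subtype.ext
    change ((w ^ 2) • (1 : Matrix (Fin 3) (Fin 3) F)) * X.1 = X.1 * ((w ^ 2) • (1 : Matrix (Fin 3) (Fin 3) F))
    rw [Matrix.smul_mul, Matrix.mul_smul, Matrix.one_mul, Matrix.mul_one]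
  refine ⟨A ^ 3, Z, D, P, ?_, ?_, hZ _, (hZ _).symm, (hZ _).symm, ?_⟩
  · rw [orderOf_pow_of_dvd (by norm_num) (by rw [hA]; norm_num), hA]
  · have := Fact.mk Nat.prime_three
    apply orderOf_eq_prime
    · apply Subtype.ext
      change ((w ^ 2) • (1 : Matrix (Fin 3) (Fin 3) F)) ^ 3 = 1
      rw [smul_pow, one_pow, ← pow_mul, mul_comm, pow_mul, hw, one_pow, one_smul]
    · intro h1
      have h2 : ((w ^ 2) • (1 : Matrix (Fin 3) (Fin 3) F)) = 1 := congrArg Subtype.val h1
      have h3 := congrFun (congrFun h2 0) 0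
      simp only [Matrix.smul_apply, Matrix.one_apply_eq, smul_eq_mul, mul_one] at h3
      apply hw1
      calc w = w * 1 := (mul_one _).symm
        _ = w * w ^ 2 := by rw [h3]
        _ = w ^ 3 := by ring
        _ = 1 := hw
  · apply Subtype.ext
    change !![1, 0, 0; 0, w, 0; 0, 0, w ^ 2] * !![0, 1, 0; 0, 0, 1; 1, 0, 0] =
      ((w ^ 2) • (1 : Matrix (Fin 3) (Fin 3) F)) * (!![0, 1, 0; 0, 0, 1; 1, 0, 0] * !![1, 0, 0; 0, w, 0; 0, 0, w ^ 2])
    rw [Matrix.smul_mul, Matrix.one_mul]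
    ext i j
    fin_cases i <;> fin_cases j <;> simp [Matrix.mul_apply, Fin.sum_univ_three]
    · linear_combination -hw
    · linear_combination (-w) * hw

/-- `G₂(4)` is not a subgroup of `Fi22` -/
theorem not_g2 {T : Type u} [Group T] (h : Spor.IsoFi22 T) {S : Type v} [Group S] (hS : Real (.g2 4) S) (φ : S →* T)
    (hφ : Function.Injective φ) : False := by
  obtain ⟨F, _, _, hF, ⟨e⟩⟩ := hS
  obtain ⟨s, y, a, b, hs, hy, hsy, ha, hb, hab⟩ := sl_conf hF
  obtain ⟨f⟩ := Cfsg.Agent.H638.G2Iso.equiv (F := F)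
  let ψ : Matrix.SpecialLinearGroup (Fin 3) F →* T := φ.comp ((e.symm.toMonoidHom.comp f.toMonoidHom).comp (slG F))
  have hψ : Function.Injective ψ := hφ.comp ((e.symm.injective.comp f.injective).comp (slG_inj F))
  refine not_commutator h (s := ψ s) (y := ψ y) (a := ψ a) (b := ψ b) ?_ ?_ ?_ ?_ ?_ ?_
  · rw [orderOf_injective ψ hψ, hs]
  · rw [orderOf_injective ψ hψ, hy]
  · rw [← map_mul, hsy, map_mul]
  · rw [← map_mul, ha, map_mul]
  · rw [← map_mul, hb, map_mul]
  · rw [← map_mul, hab, map_mul, map_mul]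

end PartB

section PartC

open Subgroup Cfsg Cfsg.Agent.H439.Der Cfsg.Agent.H257.El Cfsg.Agent.OrdDiv Cfsg.Agent.H870.Der
open Cfsg.Agent.H713.Count Cfsg.Agent.H713 Cfsg.Agent.H870.Der.Cop Cfsg.Agent.H870.Der.FiTwo
open Cfsg.Agent.H257.Cov Cfsg.Agent.H278.Cov

/-! ### no elements of order 21 -/

theorem psl_no21 {q : ℕ} {S : Type u} [Group S] (h : OrdDiv.Real (.psl 2 q) S) (h4 : 4 ≤ q)
    (h21 : ¬ 21 ∣ (q - 1) / Nat.gcd 2 (q - 1)) (h21' : ¬ 21 ∣ (q + 1) / Nat.gcd 2 (q - 1)) (z : S) :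
    orderOf z ≠ 21 := by
  obtain ⟨F, _, _, hF, ⟨e⟩⟩ := h
  obtain ⟨l, hl⟩ := CharP.exists F
  have hlf : Fact l.Prime := ⟨CharP.char_is_prime F l⟩
  have hs := S2475.result (F := F) l (by omega)
  have hmem : ∀ m : ℕ, (∃ x : Matrix.ProjectiveSpecialLinearGroup (Fin 2) F, orderOf x = m) →
      (m ∣ l ∨ m ∣ (Fintype.card F - 1) / Nat.gcd 2 (Fintype.card F - 1) ∨
        m ∣ (Fintype.card F + 1) / Nat.gcd 2 (Fintype.card F - 1)) := fun m => ((Set.ext_iff.1 hs m).1)
  intro hz
  rw [hF] at hmem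
  rcases hmem 21 ⟨e z, by rw [MulEquiv.orderOf_eq, hz]⟩ with h1 | h1 | h1
  · rcases (Nat.dvd_prime hlf.out).1 h1 with h2 | h2
    · norm_num at h2
    · have := hlf.out
      rw [← h2] at this
      norm_num at this
  · exact h21 h1
  · exact h21' h1

theorem ord_three : orderOf ((3 : ℕ) : ZMod 7) = 6 := by
  rw [orderOf_eq_iff (by norm_num)]
  refine ⟨by decide, fun m hm hm0 => ?_⟩
  interval_cases m <;> decide

theorem psp_no21' {F : Type} [Field F] [Fintype F] (hF : Fintype.card F = 3) (z : PSp 3 F) : orderOf z ≠ 21 := by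
  intro hz
  obtain ⟨l, hl⟩ := CharP.exists F
  have hlf : Fact l.Prime := ⟨CharP.char_is_prime F l⟩
  have hl3 : l = 3 := by
    have h1 : l ∣ 3 := by
      rw [← hF, ← CharP.cast_eq_zero_iff F l]
      exact FiniteField.cast_card_eq_zero F
    rcases (Nat.dvd_prime Nat.prime_three).1 h1 with h2 | h2
    · exact absurd h2 hlf.out.one_lt.ne'
    · exact h2
  subst hl3
  have h7 : (7 : ℕ).Prime := by norm_num
  have hd : 7 ∣ Nat.card (PSp 3 F) := by
    have h1 := orderOf_dvd_natCard z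
    rw [hz] at h1
    exact (by norm_num : 7 ∣ 21).trans h1
  have ho : orderOf ((Fintype.card F : ℕ) : ZMod 7) = 6 := by
    rw [hF]
    exact ord_three
  refine (S2472.result (F := F) 3 3 (by norm_num) (by omega) 7 h7 (by norm_num) (by norm_num) hd 6 3 ho.symm
    (Or.inr ⟨by decide, by norm_num⟩)).2 (by norm_num) ⟨z, hz⟩

theorem psp_no21 {S : Type u} [Group S] (h : OrdDiv.Real (.psp 3 3) S) (z : S) : orderOf z ≠ 21 := by
  obtain ⟨F, _, _, hF, ⟨e⟩⟩ := h
  intro hz
  exact psp_no21' hF (e z) (by rw [MulEquiv.orderOf_eq, hz])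

theorem oodd_no21 {S : Type u} [Group S] (h : OrdDiv.Real (.oodd 3 3) S) (z : S) : orderOf z ≠ 21 := by
  obtain ⟨F, _, _, hF, ⟨e⟩⟩ := h
  intro hz
  obtain ⟨y, hy⟩ := (S2474.result (F := F) (by rw [hF]; decide) 3 le_rfl 7 3 (by norm_num) (by norm_num)
    (by norm_num)).1 ⟨e z, by rw [MulEquiv.orderOf_eq, hz]⟩
  exact psp_no21' hF y hy

theorem g2_no21 {S : Type u} [Group S] (h : OrdDiv.Real (.g2 3) S) (z : S) : orderOf z ≠ 21 := by
  obtain ⟨F, _, _, hF, ⟨e⟩⟩ := h
  intro hz
  have P : H542.G2X.Par 3 1 (Fintype.card F) := ⟨Nat.prime_three, le_refl 1, by rw [hF]; norm_num, by omega⟩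
  have h1 := (H542.G2X.om_iff P (m := 21)).1 ⟨e z, by rw [MulEquiv.orderOf_eq, hz]⟩
  rw [hF] at h1
  unfold H542.G2X.Om at h1
  norm_num at h1

/-! ### the 3-part of the core -/

section

variable {T : Type u} [Group T] [Finite T] (F : Facts T) {R : Subgroup T} {O : Subgroup R} [O.Normal]
include F

/-- an element of order 3 commuting with an element of order 7 does not lie in the core -/
theorem not_mem_core (h13 : 13 ∣ Nat.card R) (h13O : ¬ 13 ∣ Nat.card O) (h7O : ¬ 7 ∣ Nat.card O) {u v : R}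
    (hu : orderOf u = 3) (hv : orderOf v = 7) (huv : u * v = v * u) : u ∉ O := by
  intro huO
  have h7' : Fact (Nat.Prime 7) := ⟨by norm_num⟩
  have h3' : Fact (Nat.Prime 3) := ⟨by norm_num⟩
  have h13' : Fact (Nat.Prime 13) := ⟨by norm_num⟩
  have hRn := dvd_n F R
  have hA : IsPGroup 7 (zpowers v) := IsPGroup.of_card (n := 1) (by rw [Nat.card_zpowers, hv, pow_one])
  have hB : IsPGroup 3 (zpowers u) := IsPGroup.of_card (n := 1) (by rw [Nat.card_zpowers, hu, pow_one])
  obtain ⟨S, ⟨P, hP⟩, hinv, hle⟩ := Cfsg.Agent.Lib.PGroupCoprimeAction.exists_invariant_sylow_ge hA h7O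
    (fun b _ w hw => (inferInstance : O.Normal).conj_mem w hw b) (q := 3) (R := zpowers u)
    (by rw [zpowers_le]; exact huO) hB (by
      intro b hb w hw
      obtain ⟨i, rfl⟩ := mem_zpowers_iff.1 hb
      obtain ⟨j, rfl⟩ := mem_zpowers_iff.1 hw
      have h1 : Commute (v ^ i) (u ^ j) := ((show Commute u v from huv).symm.zpow_left i).zpow_right j
      rw [h1.eq, mul_inv_cancel_right]
      exact hw)
  have hSp : IsPGroup 3 S := by
    rw [← hP]
    exact P.isPGroup'.map _
  obtain ⟨b, hb⟩ := IsPGroup.iff_card.1 hSp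
  have hSO : Nat.card S ∣ Nat.card O := by
    rw [← hP, Subgroup.card_map_of_injective O.subtype_injective]
    exact Subgroup.card_subgroup_dvd_card (P : Subgroup O)
  have hb10 : b < 10 := by
    by_contra h4
    have h5 := (pow_dvd_pow 3 (show 10 ≤ b by omega)).trans
      (((hb ▸ hSO).trans (Subgroup.card_subgroup_dvd_card O)).trans hRn)
    norm_num at h5
  have huS : u ∈ S := hle (mem_zpowers u)
  have hb1 : 1 ≤ b := by
    by_contra hb0
    have hb0 : b = 0 := by omega
    rw [hb0, pow_zero] at hb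
    rw [Subgroup.eq_bot_of_card_eq S hb, mem_bot] at huS
    rw [huS, orderOf_one] at hu
    norm_num at hu
  -- the element of order 13
  obtain ⟨y, hy, hyS⟩ := exists_normalizer (r := 13) h13 O h13O P
  rw [hP] at hyS
  have h1 : 3 ^ b % 13 = 1 := by
    by_contra hne
    obtain ⟨w, -, hw, hyw⟩ := exists_comm_of_normalizer (r := 13) (s := 3) (by norm_num) (by norm_num) hy hSp hyS
      (by rw [hb]; exact hne)
    exact noR_13 F (k := 13 * 3) (by norm_num) (by norm_num) _
      (orderOf_mul_of_comm (r := 13) (s := 3) (by norm_num) (by norm_num) (by norm_num) hy hw hyw)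
  -- the element of order 7
  have hvS : v ∈ normalizer (S : Set R) := by
    rw [mem_normalizer_iff]
    intro w
    constructor
    · exact fun hw => hinv v (mem_zpowers v) w hw
    · intro hw
      have h2 := hinv v⁻¹ (inv_mem (mem_zpowers v)) _ hw
      rwa [show v⁻¹ * (v * w * v⁻¹) * v⁻¹⁻¹ = w by group] at h2
  have h4 := card_inf_modEq (r := 7) (by norm_num) hv hvS
  rw [hb] at h4
  have h5 : IsPGroup 3 ↥(S ⊓ centralizer ({v} : Set R)) := hSp.to_le inf_le_left
  obtain ⟨c, hc⟩ := IsPGroup.iff_card.1 h5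
  rw [hc] at h4
  have h6 : c < 2 := by
    by_contra h7
    have h8 : 3 ^ 2 ∣ Nat.card (centralizer ({v} : Set R)) := by
      refine dvd_trans ?_ (Subgroup.card_dvd_of_le (inf_le_right : S ⊓ centralizer ({v} : Set R) ≤ _))
      rw [hc]
      exact pow_dvd_pow 3 (by omega : 2 ≤ c)
    have h9 := h8.trans (card_cent_sub_dvd v)
    rw [F.c7 _ (by rw [Subgroup.orderOf_coe, hv])] at h9
    norm_num at h9
  have h7 : c ≠ 0 := by
    rintro rfl
    rw [pow_zero] at hc
    have h8 : u ∈ S ⊓ centralizer ({v} : Set R) := ⟨huS, mem_centralizer_singleton_iff.2 huv⟩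
    rw [Subgroup.eq_bot_of_card_eq _ hc, mem_bot] at h8
    rw [h8, orderOf_one] at hu
    norm_num at hu
  have hc1 : c = 1 := by omega
  subst hc1
  unfold Nat.ModEq at h4
  interval_cases b <;> omega

end

/-! ### `L₂(27).3` -/

/-- an extension of index 3 of `L₂(27)` with an element of order 21 has an element of order 42 -/
theorem exists_42 {Q : Type*} [Group Q] [Finite Q] {N : Subgroup Q} [hN : N.Normal] (hm : Nat.card N = 9828)
    (hi : N.index = 3) (no21 : ∀ w : N, orderOf w ≠ 21) {z : Q} (hz : orderOf z = 21)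
    (hC : Nat.card (centralizer ({z ^ 3} : Set Q)) ∣ 42) : ∃ w : Q, orderOf w = 42 := by
  have h7' : Fact (Nat.Prime 7) := ⟨by norm_num⟩
  have h3' : Fact (Nat.Prime 3) := ⟨by norm_num⟩
  have hv : orderOf (z ^ 3) = 7 := by rw [orderOf_pow_of_dvd (by norm_num) (by rw [hz]; norm_num), hz]
  have hvN : z ^ 3 ∈ N := mem_of_coprime_index N (by rw [hv, hi]; norm_num)
  have hv' : orderOf (⟨z ^ 3, hvN⟩ : N) = 7 := by rw [Subgroup.orderOf_mk, hv]
  obtain ⟨c, h1, h2, h3⟩ := count (p := 7) (G := N) (by rw [hm]; norm_num) (by rw [hm]; norm_num) hv'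
  have hc6 : c ∣ 6 := by
    have h4 := (card_cent_sub_dvd (⟨z ^ 3, hvN⟩ : N)).trans hC
    rw [h1, show (42 : ℕ) = 7 * 6 by norm_num] at h4
    exact Nat.dvd_of_mul_dvd_mul_left (by norm_num) h4
  rw [hm] at h3
  have hc3 : ¬ 3 ∣ c := by
    intro h4
    obtain ⟨⟨y, hyC⟩, hy⟩ := exists_prime_orderOf_dvd_card' (G := centralizer ({(⟨z ^ 3, hvN⟩ : N)} : Set N)) 3
      (by rw [h1]; exact h4.mul_left 7)
    rw [Subgroup.orderOf_mk] at hy
    exact no21 _ (orderOf_mul_of_comm (r := 7) (s := 3) (by norm_num) (by norm_num) (by norm_num) hv' hy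
      (mem_centralizer_singleton_iff.1 hyC).symm)
  have hc2 : c = 2 := by
    have hle := Nat.le_of_dvd (by norm_num) hc6
    have hle2 := Nat.le_of_dvd (by norm_num) h2
    have h3' : (fus (p := 7) (⟨z ^ 3, hvN⟩ : N)).card * c % 7 = 4 := h3
    generalize (fus (p := 7) (⟨z ^ 3, hvN⟩ : N)).card = f at *
    interval_cases c
    · omega
    · interval_cases f <;> omega
    · rfl
    · omega
    · norm_num at hc6
    · norm_num at hc6
    · omega
  rw [hc2] at h1
  have h2' : Fact (Nat.Prime 2) := ⟨by norm_num⟩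
  obtain ⟨⟨t, htC⟩, ht⟩ := exists_prime_orderOf_dvd_card' (G := centralizer ({(⟨z ^ 3, hvN⟩ : N)} : Set N)) 2
    (by rw [h1]; norm_num)
  rw [Subgroup.orderOf_mk] at ht
  have htc : (⟨z ^ 3, hvN⟩ : N) * t = t * ⟨z ^ 3, hvN⟩ := (mem_centralizer_singleton_iff.1 htC).symm
  have ho : orderOf ((⟨z ^ 3, hvN⟩ : N) * t) = 14 :=
    orderOf_mul_of_comm (r := 7) (s := 2) (by norm_num) (by norm_num) (by norm_num) hv' ht htc
  have hz14 : zpowers ((⟨z ^ 3, hvN⟩ : N) * t) = centralizer ({(⟨z ^ 3, hvN⟩ : N)} : Set N) := by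
    apply Subgroup.eq_of_le_of_card_ge
    · rw [zpowers_le]
      exact mul_mem (mem_centralizer_singleton_iff.2 rfl) htC
    · rw [h1, Nat.card_zpowers, ho]
  have ht2 : t * t = 1 := by rw [← pow_two, ← ht, pow_orderOf_eq_one]
  have hw7 : ((⟨z ^ 3, hvN⟩ : N) * t) ^ 7 = t := by
    have hcm : Commute (⟨z ^ 3, hvN⟩ : N) t := htc
    rw [hcm.mul_pow, ← hv', pow_orderOf_eq_one, one_mul]
    rw [hv', show (7 : ℕ) = 2 * 3 + 1 by norm_num, pow_succ, pow_mul, pow_two, ht2, one_pow, one_mul]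
  -- the conjugate of `t`
  have htT : z ^ 7 * (t : Q) * (z ^ 7)⁻¹ ∈ N := hN.conj_mem _ t.2 _
  have hcv : Commute (z ^ 7) (z ^ 3) := (Commute.refl z).pow_pow 7 3
  have htc' : z ^ 3 * (t : Q) = t * z ^ 3 := congrArg Subtype.val htc
  have h4 : (⟨_, htT⟩ : N) ∈ centralizer ({(⟨z ^ 3, hvN⟩ : N)} : Set N) := by
    rw [mem_centralizer_singleton_iff]
    apply Subtype.ext
    change z ^ 7 * (t : Q) * (z ^ 7)⁻¹ * z ^ 3 = z ^ 3 * (z ^ 7 * (t : Q) * (z ^ 7)⁻¹)
    calc z ^ 7 * (t : Q) * (z ^ 7)⁻¹ * z ^ 3 = z ^ 7 * t * ((z ^ 7)⁻¹ * z ^ 3) := by group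
      _ = z ^ 7 * t * (z ^ 3 * (z ^ 7)⁻¹) := by rw [hcv.inv_left.eq]
      _ = z ^ 7 * (t * z ^ 3) * (z ^ 7)⁻¹ := by group
      _ = z ^ 7 * (z ^ 3 * t) * (z ^ 7)⁻¹ := by rw [htc']
      _ = (z ^ 7 * z ^ 3) * t * (z ^ 7)⁻¹ := by group
      _ = (z ^ 3 * z ^ 7) * t * (z ^ 7)⁻¹ := by rw [hcv.eq]
      _ = _ := by group
  rw [← hz14] at h4
  obtain ⟨k, hk⟩ := mem_zpowers_iff.1 h4
  set t' : N := ⟨z ^ 7 * (t : Q) * (z ^ 7)⁻¹, htT⟩ with ht'
  have ht'2 : t' * t' = 1 := by
    apply Subtype.ext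
    change z ^ 7 * (t : Q) * (z ^ 7)⁻¹ * (z ^ 7 * (t : Q) * (z ^ 7)⁻¹) = 1
    have h5 : (t : Q) * t = 1 := congrArg Subtype.val ht2
    calc z ^ 7 * (t : Q) * (z ^ 7)⁻¹ * (z ^ 7 * (t : Q) * (z ^ 7)⁻¹) = z ^ 7 * (t * t) * (z ^ 7)⁻¹ := by group
      _ = 1 := by rw [h5]; group
  have ht'1 : t' ≠ 1 := by
    intro h5
    have h6 : z ^ 7 * (t : Q) * (z ^ 7)⁻¹ = 1 := congrArg Subtype.val h5
    have h7 : (t : Q) = 1 := by
      calc (t : Q) = (z ^ 7)⁻¹ * (z ^ 7 * (t : Q) * (z ^ 7)⁻¹) * z ^ 7 := by group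
        _ = 1 := by rw [h6]; group
    have h8 : t = 1 := Subtype.ext h7
    rw [h8, orderOf_one] at ht
    norm_num at ht
  have ht'7 : t' ^ 7 = t' := by
    rw [show (7 : ℕ) = 2 * 3 + 1 by norm_num, pow_succ, pow_mul, pow_two, ht'2, one_pow, one_mul]
  have h5 : t' = t ^ k := by
    rw [← ht'7, ← hk, ← zpow_natCast, ← zpow_mul, mul_comm, zpow_mul, zpow_natCast, hw7]
  have h6 : t' = t := by
    have htz : t ^ (2 : ℤ) = 1 := by rw [zpow_two, ht2]
    rcases Int.even_or_odd' k with ⟨j, hj | hj⟩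
    · rw [hj, zpow_mul, htz, one_zpow] at h5
      exact absurd h5 ht'1
    · rw [hj, zpow_add, zpow_mul, htz, one_zpow, one_mul, zpow_one] at h5
      exact h5
  have h7 : z ^ 7 * (t : Q) * (z ^ 7)⁻¹ = t := congrArg Subtype.val h6
  have c7 : Commute (z ^ 7) (t : Q) := mul_inv_eq_iff_eq_mul.1 h7
  have c3 : Commute (z ^ 3) (t : Q) := htc'
  have cz : Commute z (t : Q) := by
    have h8 : z = z ^ 7 * ((z ^ 3)⁻¹ * (z ^ 3)⁻¹) := by
      group
    rw [h8]
    exact c7.mul_left (c3.inv_left.mul_left c3.inv_left)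
  refine ⟨z * t, ?_⟩
  rw [cz.orderOf_mul_eq_mul_orderOf_of_coprime (by rw [hz, Subgroup.orderOf_coe, ht]; norm_num), hz,
    Subgroup.orderOf_coe, ht]

/-! ### 13 and 21 -/

section

variable {T : Type u} [Group T] [Finite T] (tab : OrderTable.{u}) (known : Known.{u}) (F : Facts T)
  (n42 : ∀ z : T, orderOf z ≠ 42)

omit [Finite T] in
theorem eq_one_of_mul {a b : ℕ} (h : a * b = a) (ha : 0 < a) : b = 1 := by
  have h1 : a * b = a * 1 := by rw [h, mul_one]
  exact Nat.eq_of_mul_eq_mul_left ha h1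

include tab known F n42 in
theorem oinc_13_21 (hiso : Spor.IsoFi22 T) : OInc T 13 21 := by
  intro R hR x hx y hy hx13 hy21
  have h13 : 13 ∣ Nat.card R := by
    rw [← hx13, ← Subgroup.orderOf_mk x hx]
    exact _root_.orderOf_dvd_natCard _
  have h21 : 21 ∣ Nat.card R := by
    rw [← hy21, ← Subgroup.orderOf_mk y hy]
    exact _root_.orderOf_dvd_natCard _
  have h7 : 7 ∣ Nat.card R := (by norm_num : 7 ∣ 21).trans h21
  have h11 : ¬ 11 ∣ Nat.card R := fun h => not_both tab known F hR h h13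
  have hyR : orderOf (⟨y, hy⟩ : R) = 21 := by rw [Subgroup.orderOf_mk, hy21]
  generalize (⟨y, hy⟩ : R) = z at hyR
  have S : SitB T 64561751654400 l 13 R := ⟨tab, known, F.card, by decide +kernel, by norm_num, h13, by norm_num, hR⟩
  obtain ⟨O, hO, N, ht⟩ := S.exists_top
  have hN := ht.normal
  have hRn := dvd_n F R
  have hcard := card_eq O N
  have k7 := S.dvd_simple ht (s := 7) (by norm_num) (F.no_13 (by norm_num) (by norm_num)) (by decide +kernel) h7
  have hna := SitA.not_comm_of_dvd ht (by norm_num) (by norm_num) k7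
  obtain ⟨g, hg, hr, hgc⟩ := S.exists_surv ht hna [7] (by
    intro s hs
    simp only [List.mem_cons, List.not_mem_nil, or_false] at hs
    rcases hs with rfl
    exact k7)
  have hidx := ht.index_mul_dvd (fun p hp _ => SitA.noR (no_13_mul F hp)) (by
    intro h
    rw [h] at k7
    norm_num at k7)
  have hQ : Nat.card (R ⧸ O) = Nat.card N * N.index := (Subgroup.card_mul_index N).symm
  have hE := thirteen F (O := O) h13 ht.core (by
    rw [hQ]
    intro h
    have h1 : 7 ∣ 13 := by rw [← h]; exact k7.mul_right _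
    norm_num at h1)
  rw [hQ] at hE
  have hs : surv 64561751654400 l 13 [7] = [.alt 13, .psl 2 64, .psl 3 9, .psl 2 27, .psl 2 13, .psp 3 3, .oodd 3 3,
      .g2 4, .g2 3, .sz 8, .suz] := by
    decide +kernel
  rw [hs] at hg
  have h7O : ¬ 7 ∣ Nat.card O := by
    intro h
    have h1 : 7 ^ 2 ∣ 64561751654400 := by
      refine dvd_trans ?_ hRn
      rw [hcard, pow_two]
      exact mul_dvd_mul k7 (h.mul_right _)
    norm_num at h1
  -- the element of order 21 of the quotient
  have hz7 : orderOf (z ^ 3) = 7 := by rw [orderOf_pow_of_dvd (by norm_num) (by rw [hyR]; norm_num), hyR]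
  have hz3 : orderOf (z ^ 7) = 3 := by rw [orderOf_pow_of_dvd (by norm_num) (by rw [hyR]; norm_num), hyR]
  have hzO : z ^ 7 ∉ O := not_mem_core F h13 ht.core h7O hz3 hz7 ((Commute.refl z).pow_pow 7 3)
  have hz21 : orderOf (QuotientGroup.mk' O z) = 21 := by
    have h1 : orderOf (QuotientGroup.mk' O z) ∣ 21 := by
      rw [← hyR]
      exact orderOf_map_dvd _ _
    have h2 : 3 ∣ orderOf (QuotientGroup.mk' O z) := by
      by_contra h3
      have h4 : orderOf (QuotientGroup.mk' O z) ∣ 7 := by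
        have h5 : Nat.Coprime (orderOf (QuotientGroup.mk' O z)) 3 :=
          ((Nat.Prime.coprime_iff_not_dvd Nat.prime_three).2 h3).symm
        exact h5.dvd_of_dvd_mul_left (by norm_num; exact h1)
      apply hzO
      rw [← QuotientGroup.eq_one_iff, QuotientGroup.mk_pow]
      exact orderOf_dvd_iff_pow_eq_one.1 h4
    have h3 : 7 ∣ orderOf (QuotientGroup.mk' O z) := by
      have h4 := orderOf_mk (O := O) (p := 7) (by norm_num) h7O hz7
      rw [← h4, map_pow]
      exact orderOf_pow_dvd 3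
    exact Nat.dvd_antisymm h1 (Nat.Coprime.mul_dvd_of_dvd_of_dvd (m := 3) (n := 7) (by norm_num) h2 h3)
  have inN : Nat.Coprime 21 N.index → ∃ w : N, orderOf w = 21 := by
    intro hc
    have hzN : QuotientGroup.mk' O z ∈ N := mem_of_coprime_index N (by rw [hz21]; exact hc)
    exact ⟨⟨_, hzN⟩, by rw [Subgroup.orderOf_mk, hz21]⟩
  have sml : ∀ m : ℕ, Nat.card N = m → (m / 13) % 13 = 6 → (2 * m / 13) % 13 = 12 → N.index = 1 := by
    intro m hm hm6 hm12
    rw [hm, hm6] at hidx
    rw [hm] at hE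
    have h2 : N.index * 6 ∣ 2 * 6 := hidx
    rcases (Nat.dvd_prime Nat.prime_two).1 (Nat.dvd_of_mul_dvd_mul_right (by norm_num) h2) with h1 | h1
    · exact h1
    · rw [h1, mul_comm, hm12] at hE
      norm_num at hE
  have c21 : Nat.Coprime 21 1 := Nat.coprime_one_right 21
  simp only [List.mem_cons, List.not_mem_nil, or_false] at hg
  rcases hg with rfl | rfl | rfl | rfl | rfl | rfl | rfl | rfl | rfl | rfl | rfl
  · -- `A13`
    apply h11
    rw [hcard, hgc]
    exact Dvd.dvd.mul_right (by decide +kernel) _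
  · -- `L2(64)`
    have hm : Nat.card N = 262080 := by rw [hgc]; decide +kernel
    rw [hm] at hidx
    have h1 : N.index * 10 ∣ 12 := hidx
    have h2 : 10 ∣ 12 := (dvd_mul_left _ _).trans h1
    norm_num at h2
  · -- `L3(9)`
    have hm : Nat.card N = 42456960 := by rw [hgc]; decide +kernel
    rw [hm] at hidx
    have h1 : N.index * 8 ∣ 12 := hidx
    have h2 : 8 ∣ 12 := (dvd_mul_left _ _).trans h1
    norm_num at h2
  · -- `L2(27)`
    have hm : Nat.card N = 9828 := by rw [hgc]; decide +kernel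
    have no21 : ∀ w : N, orderOf w ≠ 21 := psl_no21 hr (by norm_num) (by norm_num) (by norm_num)
    rw [hm] at hE hidx
    have hi12 : N.index * 2 ∣ 6 * 2 := hidx
    have hi6 : N.index ∣ 6 := Nat.dvd_of_mul_dvd_mul_right (by norm_num) hi12
    have hi : N.index = 1 ∨ N.index = 3 := by
      have h1 := Nat.le_of_dvd (by norm_num) hi6
      generalize N.index = i at *
      interval_cases i
      · norm_num at hi6
      · left; rfl
      · exact absurd hE (by decide)
      · right; rfl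
      · exact absurd hi6 (by decide)
      · exact absurd hi6 (by decide)
      · exact absurd hE (by decide)
    rcases hi with hi | hi
    · obtain ⟨w, hw⟩ := inN (by rw [hi]; exact c21)
      exact no21 w hw
    · obtain ⟨w, hw⟩ := exists_42 hm hi no21 hz21 (by
        rw [← map_pow]
        have h1 := (card_cent_quot_dvd (by norm_num) h7O hz7).trans (card_cent_sub_dvd (z ^ 3))
        rwa [F.c7 _ (by rw [Subgroup.orderOf_coe, hz7])] at h1)
      obtain ⟨y, hy⟩ := QuotientGroup.mk'_surjective O w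
      obtain ⟨j, hj⟩ := exists_lift (QuotientGroup.mk' O) (z := y) (n := 42) (by rw [hy, hw])
      exact n42 ((y ^ j : R) : T) (by rw [Subgroup.orderOf_coe, hj])
  · -- `L2(13)`
    have hi := sml 1092 (by rw [hgc]; decide +kernel) (by norm_num) (by norm_num)
    obtain ⟨w, hw⟩ := inN (by rw [hi]; exact c21)
    exact psl_no21 hr (by norm_num) (by norm_num) (by norm_num) w hw
  · -- `PSp6(3)`
    have hm : Nat.card N = 4585351680 := by rw [hgc]; decide +kernel
    have hi := sml 4585351680 hm (by norm_num) (by norm_num)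
    obtain ⟨w, hw⟩ := inN (by rw [hi]; exact c21)
    exact psp_no21 hr w hw
  · -- `O7(3)`
    have hm : Nat.card N = 4585351680 := by rw [hgc]; decide +kernel
    have hi := sml 4585351680 hm (by norm_num) (by norm_num)
    obtain ⟨w, hw⟩ := inN (by rw [hi]; exact c21)
    exact oodd_no21 hr w hw
  · -- `G2(4)`
    have hm : Nat.card N = 251596800 := by rw [hgc]; decide +kernel
    have h5 : 5 ∣ Nat.card R := by
      rw [hcard, hm]
      exact Dvd.dvd.mul_right (by norm_num) _
    have hk : Nat.card O * N.index = 1 := by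
      rcases Cfsg.Agent.H870.Der.FiTwo.typeA tab known F hR h13 h7 h5 h11 with h | h
      · rw [hcard, hm] at h
        omega
      · rw [hcard, hm] at h
        exact eq_one_of_mul h (by norm_num)
    have hO1 : O = ⊥ := Subgroup.eq_bot_of_card_eq O (Nat.eq_one_of_mul_eq_one_right hk)
    subst hO1
    exact not_g2 hiso hr (R.subtype.comp ((QuotientGroup.quotientBot (G := R)).toMonoidHom.comp N.subtype))
      (R.subtype_injective.comp ((QuotientGroup.quotientBot (G := R)).injective.comp N.subtype_injective))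
  · -- `G2(3)`
    have hi := sml 4245696 (by rw [hgc]; decide +kernel) (by norm_num) (by norm_num)
    obtain ⟨w, hw⟩ := inN (by rw [hi]; exact c21)
    exact g2_no21 hr w hw
  · -- `Sz(8)`
    have hm : Nat.card N = 29120 := by rw [hgc]; decide +kernel
    rw [hm] at hidx hE
    have h1 : N.index * 4 ∣ 12 := hidx
    have h2 : N.index ≤ 3 := by
      have := Nat.le_of_dvd (by norm_num) h1
      omega
    generalize N.index = i at *
    interval_cases i
    · norm_num at h1
    · exact absurd hE (by decide)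
    · norm_num at h1
    · exact absurd hE (by decide)
  · -- `Suz`
    apply h11
    rw [hcard, hgc]
    exact Dvd.dvd.mul_right (by decide +kernel) _

end

/-- **S2499 for `Fi22`**: `Fi22` is not the union of the conjugates of two proper subgroups (orders 11, 13, 21) -/
theorem noTwo_fi22 (tab : OrderTable.{u}) (known : Known.{u}) {T : Type u} [Group T] [Finite T]
    (h : Spor.IsoFi22 T) : NoTwo T := by
  have F := facts h
  have n42 : ∀ z : T, orderOf z ≠ 42 := fun z hz => H559.FiSpec.no42 h ⟨z, hz⟩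
  exact noTwo_of_orders (F.ord (p := 11) (by norm_num) (by norm_num)) (F.ord (p := 13) (by norm_num) (by norm_num))
    F.o21 (oinc_11_13 tab known F) (oinc_13_21 tab known F n42 h) (oinc_11_21 tab known F)

end PartC

end Cfsg.Agent.H560.Cov.Fi22
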